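import Cfsg.Agent.Lib.TwistCoset.Index

/-!
Chains and reached sets given by spanning trees in depth-first order: each point costs one
generator instead of a whole path.
-/

set_option autoImplicit false

namespace CfsgLib.TwistCoset

open CfsgLib.CosetEnum

/-- `n` numbers of `w` bits each, the first lowest -/
noncomputable def nOf (w n : ℕ) : ℕ → List ℕ :=
  Nat.rec (fun _ => [])
    (fun _ ih x => strict x fun x => strict (Nat.mod x (2 ^ w)) fun d =>
      d :: ih (Nat.div x (2 ^ w))) n

/-- the point of an entry -/
def entPt (e : ℕ) : ℕ := e % 2 ^ 14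

/-- the generator of an entry -/
def entGen (e : ℕ) : ℕ := e / 2 ^ 14 % 2 ^ 6

/-- the depth of the parent of an entry, plus one -/
def entDepth (e : ℕ) : ℕ := e / 2 ^ 20

/-- the ancestors kept for an entry -/
def entKeep {α : Type*} (e : ℕ) (st : List α) : List α := st.drop (st.length - entDepth e)

/-- the path of an entry -/
def entPath (e : ℕ) (st : List (ℕ × List ℕ)) : List ℕ :=
  ((entKeep e st).headD (0, [])).2 ++ [entGen e]

/-- the points with their paths -/
noncomputable def expand : List ℕ → List (ℕ × List ℕ) → List (ℕ × List ℕ)
  | [], _ => []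
  | e :: l, st => (entPt e, entPath e st) :: expand l ((entPt e, entPath e st) :: entKeep e st)

/-- every entry is its parent moved by its generator -/
noncomputable def walkOK (C : Cert) (gens : List (List ℕ)) : List ℕ → List ℕ → Bool
  | [], _ => true
  | e :: l, st => strict (entPt e) fun p =>
    match entKeep e st with
    | [] => false
    | q :: r => Nat.beq (C.run q (gens.getD (entGen e) [])) p && walkOK C gens l (p :: q :: r)

theorem expand_fst : ∀ (l : List ℕ) (st : List (ℕ × List ℕ)),
    (expand l st).map Prod.fst = l.map entPt
  | [], _ => by simp [expand]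
  | e :: l, st => by simp [expand, expand_fst l]

theorem pathWord_single (gens : List (List ℕ)) (path : List ℕ) (k : ℕ) :
    pathWord gens (path ++ [k]) = pathWord gens path ++ gens.getD k [] := by
  simp [pathWord]

theorem walk_expand {C : Cert} {gens : List (List ℕ)} {b : ℕ} : ∀ {l : List ℕ}
    {st : List (ℕ × List ℕ)}, walkOK C gens l (st.map Prod.fst) = true →
    (∀ e ∈ st, C.run b (pathWord gens e.2) = e.1) →
    ∀ e ∈ expand l st, C.run b (pathWord gens e.2) = e.1
  | [], st, _, _ => by simp [expand]
  | x :: l, st, h, hs => by
    have hk : entKeep x (st.map Prod.fst) = (entKeep x st).map Prod.fst := by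
      simp [entKeep, List.map_drop]
    rw [walkOK, strict_eq, hk] at h
    cases hkeep : entKeep x st with
    | nil => simp [hkeep] at h
    | cons q r =>
      simp only [hkeep, List.map_cons, Bool.and_eq_true] at h
      obtain ⟨h1, h2⟩ := h
      have hmem : ∀ e ∈ q :: r, e ∈ st := fun e he => List.mem_of_mem_drop (hkeep ▸ he)
      have hq := hs q (hmem q List.mem_cons_self)
      have hp : C.run b (pathWord gens (entPath x st)) = entPt x := by
        rw [entPath, hkeep, List.headD_cons, pathWord_single, run_append, hq]
        exact Nat.eq_of_beq_eq_true h1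
      rw [expand, hkeep]
      intro e he
      rcases List.mem_cons.mp he with rfl | he
      · exact hp
      · refine walk_expand (st := (entPt x, entPath x st) :: q :: r) h2 ?_ e he
        intro e he
        rcases List.mem_cons.mp he with rfl | he
        · exact hp
        · exact hs e (hmem e he)

/-- a level from its tree -/
noncomputable def treeLev (b : ℕ) (gens : List (List ℕ)) (ents : List ℕ) : CLev :=
  ⟨b, gens, (b, []) :: expand ents [(b, [])]⟩

theorem treeLev_base (b : ℕ) (gens : List (List ℕ)) (ents : List ℕ) :
    (treeLev b gens ents).base = b := rfl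

theorem treeLev_length (b : ℕ) (gens : List (List ℕ)) (ents : List ℕ) :
    (treeLev b gens ents).orbit.length = ents.length + 1 := by
  have h := congrArg List.length (expand_fst ents [(b, [])])
  simp only [List.length_map] at h
  simp [treeLev, h]

/-- the check of a level below fixed points -/
noncomputable def levOK (C : Cert) (prev : List ℕ) (b : ℕ) (gens : List (List ℕ)) (ents : List ℕ) :
    Bool :=
  Nat.blt b C.N && (gens.all fun g => lettersOK C g && prev.all fun p => Nat.beq (C.run p g) p) &&
    walkOK C gens ents [b] && newFrom (b :: ents.map entPt) 0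

theorem cOK_tree {C : Cert} {prev : List ℕ} {b : ℕ} {gens : List (List ℕ)} {ents : List ℕ}
    {ls : List CLev} (h : levOK C prev b gens ents = true) (hls : cOK C (b :: prev) ls = true) :
    cOK C prev (treeLev b gens ents :: ls) = true := by
  simp only [levOK, Bool.and_eq_true] at h
  obtain ⟨⟨⟨hb, hg⟩, hw⟩, hn⟩ := h
  have hp := walk_expand (st := [(b, [])]) (b := b) hw (by simp [pathWord, Cert.run_nil])
  simp only [cOK, treeLev, Bool.and_eq_true]
  refine ⟨⟨⟨⟨hb, hg⟩, ?_⟩, ?_⟩, hls⟩
  · simp only [List.all_cons, List.all_eq_true, Bool.and_eq_true]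
    refine ⟨?_, fun e he => ?_⟩
    · simp [pathWord, Cert.run_nil]
    · rw [hp e he]; simp
  · rw [List.map_cons, expand_fst]
    exact hn

/-- the ancestors after some entries -/
noncomputable def walkEnd : List ℕ → List ℕ → List ℕ
  | [], st => st
  | e :: l, st => strict (entPt e) fun p => walkEnd l (p :: entKeep e st)

theorem walkOK_append {C : Cert} {gens : List (List ℕ)} : ∀ {l l' st st' : List ℕ},
    walkOK C gens l st = true → walkEnd l st = st' → walkOK C gens l' st' = true →
    walkOK C gens (l ++ l') st = true
  | [], l', st, st', _, he, h' => by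
    rw [show walkEnd [] st = st by simp [walkEnd]] at he
    subst he
    simpa using h'
  | e :: l, l', st, st', h, he, h' => by
    rw [walkOK, strict_eq] at h
    rw [walkEnd, strict_eq] at he
    rw [List.cons_append, walkOK, strict_eq]
    cases hk : entKeep e st with
    | nil => simp [hk] at h
    | cons q r =>
      simp only [hk, Bool.and_eq_true] at h he ⊢
      exact ⟨h.1, walkOK_append h.2 he h'⟩

/-- one piece of the walk -/
noncomputable def walkStep (C : Cert) (gens : List (List ℕ)) (l st st' : List ℕ) : Bool :=
  walkOK C gens l st && walkEnd l st == st'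

theorem walkStep_append {C : Cert} {gens : List (List ℕ)} {l l' st st' : List ℕ}
    (h : walkStep C gens l st st' = true) (h' : walkOK C gens l' st' = true) :
    walkOK C gens (l ++ l') st = true := by
  simp only [walkStep, Bool.and_eq_true, beq_iff_eq] at h
  exact walkOK_append h.1 h.2 h'

/-- the part of the check of a level outside the walk -/
noncomputable def levBase (C : Cert) (prev : List ℕ) (b : ℕ) (gens : List (List ℕ)) (ents : List ℕ) :
    Bool :=
  Nat.blt b C.N && (gens.all fun g => lettersOK C g && prev.all fun p => Nat.beq (C.run p g) p) &&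
    newFrom (b :: ents.map entPt) 0

theorem levOK_of {C : Cert} {prev : List ℕ} {b : ℕ} {gens : List (List ℕ)} {ents : List ℕ}
    (h : levBase C prev b gens ents = true) (hw : walkOK C gens ents [b] = true) :
    levOK C prev b gens ents = true := by
  simp only [levBase, Bool.and_eq_true] at h
  simp only [levOK, Bool.and_eq_true]
  exact ⟨⟨⟨h.1.1, h.1.2⟩, hw⟩, h.2⟩

theorem cOK_nil {C : Cert} {prev : List ℕ} : cOK C prev [] = true := by simp [cOK]

/-- a leaf from a number: bit 0 is the kind, bit 1 the sign, then the fact and the predecessor -/
def leafOf (x : ℕ) : Leaf :=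
  if x % 2 = 0 then .root (x / 2) else .child (x / 4 % 2 ^ 8) (x / 2 % 2 == 1) (x / 2 ^ 10)

namespace TData

variable (D : TData)

/-- one piece of a spanning tree -/
noncomputable def reachStep (M i : ℕ) (l : List Leaf) (m m' : ℕ) : Bool :=
  match D.reachFrom M i l m with
  | some r => Nat.beq r m'
  | none => false

theorem reachStep_spec {P G : Type*} [Group P] [Group G] {D : TData} {gen0 : ℕ → P} {φ : P →* G}
    {H : Subgroup G} {t : G} (R : TRig D gen0 φ H t) {M i : ℕ} {l : List Leaf} {m m' : ℕ}
    (h : D.reachStep M i l m m' = true) (hm : ∀ p, m.testBit p = true → D.Reach M i p) :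
    ∀ p, m'.testBit p = true → D.Reach M i p := by
  unfold reachStep at h
  cases hr : D.reachFrom M i l m with
  | none => simp [hr] at h
  | some out =>
    rw [hr] at h
    exact Nat.eq_of_beq_eq_true h ▸ reachFrom_spec R hr hm

end TData

end CfsgLib.TwistCoset
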