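import Cfsg.Agent.Lib.CosetEnum.Use

/-!
A group generated by letters acting through a coset table: lower bounds from orbit chains, and
points whose images determine an element.
-/

set_option autoImplicit false

namespace CfsgLib.TwistCoset

open CfsgLib.CosetEnum

variable {P : Type*} [Group P]

/-- A right action through a table. -/
structure Act (C : Cert) (gen : ℕ → P) where
  /-- the action -/
  ψ : P →* (Equiv.Perm (Fin C.N))ᵐᵒᵖ
  /-- what it does to a word -/
  apply : ∀ w : List ℕ, (∀ g ∈ w, g < C.K) → ∀ x : Fin C.N,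
    ((ψ (prodW gen w)).unop x : ℕ) = C.run x w
  /-- inverse letters -/
  inv_mul : ∀ g, gen g * gen (C.inv g) = 1
  /-- inverse letters are letters -/
  inv_lt : ∀ g, g < C.K → C.inv g < C.K

/-- a word stored in hexadecimal digits, the first letter lowest -/
noncomputable def wOf (n : ℕ) : ℕ → List ℕ :=
  Nat.rec (fun _ => [])
    (fun _ ih x => strict x fun x => strict (Nat.mod x (nat_lit 16)) fun d =>
      d :: ih (Nat.div x (nat_lit 16))) n

/-- One level: base point, generators, and paths in them to the orbit. -/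
structure CLev where
  /-- base point -/
  base : ℕ
  /-- the generators -/
  gens : List (List ℕ)
  /-- points with paths -/
  orbit : List (ℕ × List ℕ)

/-- the product of a chain -/
def cSize : List CLev → ℕ
  | [] => 1
  | l :: ls => l.orbit.length * cSize ls

/-- a word uses letters only -/
def lettersOK (C : Cert) (w : List ℕ) : Bool := w.all fun g => Nat.blt g C.K

/-- a product of generators along a path -/
def pathWord (gs : List (List ℕ)) (path : List ℕ) : List ℕ := path.flatMap fun k => gs.getD k []

/-- the numbers are new and distinct, the mask holding those seen -/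
noncomputable def newFrom : List ℕ → ℕ → Bool
  | [], _ => true
  | x :: l, mask => strict mask fun mask =>
    !(Nat.testBit mask x) && newFrom l (Nat.lor mask (2 ^ x))

theorem newFrom_spec : ∀ {l : List ℕ} {mask : ℕ}, newFrom l mask = true →
    l.Nodup ∧ ∀ x ∈ l, mask.testBit x = false
  | [], _, _ => by simp
  | x :: l, mask, h => by
    rw [newFrom, strict_eq, Bool.and_eq_true, Bool.not_eq_true'] at h
    obtain ⟨hx, hl⟩ := h
    obtain ⟨hn, hm⟩ := newFrom_spec hl
    simp only [show ∀ a b : ℕ, Nat.lor a b = a ||| b from fun _ _ => rfl, Nat.testBit_or,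
      Bool.or_eq_false_iff, Nat.testBit_two_pow, decide_eq_false_iff_not] at hm
    refine ⟨List.nodup_cons.mpr ⟨fun hc => (hm x hc).2 rfl, hn⟩, fun y hy => ?_⟩
    rcases List.mem_cons.mp hy with rfl | hy
    · exact hx
    · exact (hm y hy).1

/-- the check of a chain below fixed points -/
noncomputable def cOK (C : Cert) : List ℕ → List CLev → Bool
  | _, [] => true
  | prev, l :: ls =>
    Nat.blt l.base C.N && (l.gens.all fun g => lettersOK C g &&
      prev.all fun b => Nat.beq (C.run b g) b) &&
    (l.orbit.all fun e => Nat.beq (C.run l.base (pathWord l.gens e.2)) e.1) &&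
    newFrom (l.orbit.map Prod.fst) 0 && cOK C (l.base :: prev) ls

theorem lettersOK_iff {C : Cert} {w : List ℕ} : lettersOK C w = true ↔ ∀ g ∈ w, g < C.K := by
  simp [lettersOK, List.all_eq_true, Nat.blt_eq]

namespace Act

variable {C : Cert} {gen : ℕ → P} (A : Act C gen)

theorem gen_inv (g : ℕ) (a : Act C gen) : gen (C.inv g) = (gen g)⁻¹ :=
  (inv_eq_of_mul_eq_one_right (a.inv_mul g)).symm

theorem revInv_lt {w : List ℕ} (hw : ∀ g ∈ w, g < C.K) (a : Act C gen) :
    ∀ g ∈ C.revInv w, g < C.K := by
  intro g hg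
  simp only [Cert.revInv, List.mem_reverse, List.mem_map] at hg
  obtain ⟨g', hg', rfl⟩ := hg
  exact a.inv_lt g' (hw g' hg')

theorem revInv_eq (a : Act C gen) : ∀ w : List ℕ, prodW gen (C.revInv w) = (prodW gen w)⁻¹
  | [] => by simp [Cert.revInv]
  | g :: w => by
    have : C.revInv (g :: w) = C.revInv w ++ [C.inv g] := by simp [Cert.revInv]
    rw [this, prodW_append, a.revInv_eq w, prodW_cons, prodW_cons, prodW_nil, mul_one, gen_inv g a,
      mul_inv_rev]

/-- the elements of `K` fixing the points -/
def fixer (K : Subgroup P) (B : List ℕ) : Subgroup P where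
  carrier := {x | x ∈ K ∧ ∀ b ∈ B, ∀ h : b < C.N, (A.ψ x).unop ⟨b, h⟩ = ⟨b, h⟩}
  mul_mem' := by
    rintro x y ⟨hx, hx'⟩ ⟨hy, hy'⟩
    refine ⟨mul_mem hx hy, fun b hb h => ?_⟩
    rw [map_mul, MulOpposite.unop_mul, Equiv.Perm.mul_apply, hx' b hb h, hy' b hb h]
  one_mem' := ⟨one_mem K, fun b _ h => by simp⟩
  inv_mem' := by
    rintro x ⟨hx, hx'⟩
    refine ⟨inv_mem hx, fun b hb h => ?_⟩
    rw [map_inv, MulOpposite.unop_inv, Equiv.Perm.inv_eq_iff_eq, hx' b hb h]

theorem pathWord_lt {gs : List (List ℕ)} (h : ∀ g ∈ gs, ∀ c ∈ g, c < C.K) :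
    ∀ path : List ℕ, ∀ c ∈ pathWord gs path, c < C.K := by
  intro path c hc
  obtain ⟨k, -, hk⟩ := List.mem_flatMap.mp hc
  by_cases hk' : k < gs.length
  · rw [List.getD_eq_getElem _ _ hk'] at hk
    exact h _ (List.getElem_mem hk') c hk
  · rw [List.getD_eq_default _ _ (by omega)] at hk
    simp at hk

theorem cOK_card [Finite P] (K : Subgroup P) : ∀ {ls : List CLev} {prev : List ℕ},
    cOK C prev ls = true → (∀ l ∈ ls, ∀ g ∈ l.gens, prodW gen g ∈ K) →
      cSize ls * Nat.card (A.fixer K ((ls.map CLev.base).reverse ++ prev)) ≤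
        Nat.card (A.fixer K prev)
  | [], prev, _, _ => by simp [cSize]
  | l :: ls, prev, h, hK => by
    simp only [cOK, Bool.and_eq_true, List.all_eq_true, Nat.blt_eq, lettersOK_iff] at h
    obtain ⟨⟨⟨⟨hb, hgs⟩, hpt⟩, hnew⟩, hok⟩ := h
    have hnd := (newFrom_spec hnew).1
    have ih := cOK_card K hok fun l' hl' => hK l' (List.mem_cons_of_mem _ hl')
    have hlt := pathWord_lt (C := C) fun g hg => (hgs g hg).1
    have hmem : ∀ path, prodW gen (pathWord l.gens path) ∈ A.fixer K prev := by
      intro path
      induction path with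
      | nil => simp [pathWord]
      | cons k path ihp =>
        rw [pathWord, List.flatMap_cons, prodW_append]
        refine mul_mem ?_ ihp
        by_cases hk : k < l.gens.length
        · rw [List.getD_eq_getElem _ _ hk]
          obtain ⟨hl, hfx⟩ := hgs _ (List.getElem_mem hk)
          refine ⟨hK l List.mem_cons_self _ (List.getElem_mem hk), fun b hb' hbN => ?_⟩
          refine Fin.ext ?_
          rw [A.apply _ hl]
          exact Nat.eq_of_beq_eq_true (hfx b hb')
        · rw [List.getD_eq_default _ _ (by omega), prodW_nil]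
          exact one_mem _
    have hle : A.fixer K (l.base :: prev) ≤ A.fixer K prev := fun x hx =>
      ⟨hx.1, fun b hb' => hx.2 b (List.mem_cons_of_mem _ hb')⟩
    let φ : Fin l.orbit.length × A.fixer K (l.base :: prev) → A.fixer K prev := fun q =>
      ⟨q.2.1 * prodW gen (pathWord l.gens l.orbit[q.1].2), mul_mem (hle q.2.2) (hmem _)⟩
    have hφ : Function.Injective φ := by
      rintro ⟨j, r⟩ ⟨j', r'⟩ e
      have e' := congrArg Subtype.val e
      simp only [φ] at e'
      have e1 : ∀ (r : A.fixer K (l.base :: prev)) (j : Fin l.orbit.length),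
          ((A.ψ (r.1 * prodW gen (pathWord l.gens l.orbit[j].2))).unop ⟨l.base, hb⟩ : ℕ) =
            (l.orbit.map Prod.fst)[(j : ℕ)]'(by simp) := by
        intro r j
        rw [map_mul, MulOpposite.unop_mul, Equiv.Perm.mul_apply, r.2.2 _ List.mem_cons_self hb,
          A.apply _ (hlt _), List.getElem_map]
        exact Nat.eq_of_beq_eq_true (hpt _ (List.getElem_mem j.2))
      have e2 := e1 r j
      rw [e', e1 r' j'] at e2
      obtain rfl : j = j' := Fin.ext ((hnd.getElem_inj_iff).mp e2.symm)
      exact Prod.ext rfl (Subtype.ext (mul_right_cancel e'))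
    have hcard := Nat.card_le_card_of_injective φ hφ
    rw [Nat.card_prod, Nat.card_fin] at hcard
    rw [cSize, List.map_cons, List.reverse_cons, List.append_assoc, List.singleton_append, mul_assoc]
    exact (Nat.mul_le_mul_left _ ih).trans hcard

include A in
/-- a lower bound for the order of a subgroup -/
theorem card_ge [Finite P] {K : Subgroup P} {ls : List CLev} (h : cOK C [] ls = true)
    (hK : ∀ l ∈ ls, ∀ g ∈ l.gens, prodW gen g ∈ K) : cSize ls ≤ Nat.card K := by
  have h1 := A.cOK_card K h hK
  have h2 : A.fixer K [] = K := by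
    ext x
    simp [fixer, ← SetLike.mem_coe]
  rw [h2] at h1
  exact (Nat.le_mul_of_pos_right _ Nat.card_pos).trans h1

/-- equality of words on some points -/
noncomputable def eqW (C : Cert) (B l m : List ℕ) : Bool :=
  lettersOK C l && lettersOK C m && B.all fun b => Nat.beq (C.run b l) (C.run b m)

include A in
/-- enough points determine an element when the chain has full size -/
theorem eqW_sound [Finite P] {ls : List CLev} (h : cOK C [] ls = true)
    (hfull : Nat.card P ≤ cSize ls) {l m : List ℕ}
    (he : eqW C (ls.map CLev.base) l m = true) : prodW gen l = prodW gen m := by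
  have h1 := A.cOK_card (⊤ : Subgroup P) h fun _ _ _ _ => trivial
  have hpos : 0 < cSize ls := Nat.card_pos.trans_le hfull
  have h2 : Nat.card (A.fixer ⊤ ((ls.map CLev.base).reverse ++ [])) ≤ 1 := by
    have h3 := h1.trans ((Subgroup.card_le_card_group _).trans hfull)
    exact Nat.le_of_mul_le_mul_left (by rwa [mul_one]) hpos
  simp only [eqW, Bool.and_eq_true, lettersOK_iff, List.all_eq_true] at he
  obtain ⟨⟨hl, hm⟩, hb⟩ := he
  have hmem : prodW gen l * (prodW gen m)⁻¹ ∈ A.fixer ⊤ ((ls.map CLev.base).reverse ++ []) := by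
    refine ⟨trivial, fun b hb' hbN => ?_⟩
    rw [List.append_nil, List.mem_reverse] at hb'
    rw [map_mul, map_inv, MulOpposite.unop_mul, MulOpposite.unop_inv, Equiv.Perm.mul_apply,
      Equiv.Perm.inv_eq_iff_eq]
    refine Fin.ext ?_
    rw [A.apply _ hl, A.apply _ hm]
    exact Nat.eq_of_beq_eq_true (hb b hb')
  haveI := Finite.card_le_one_iff_subsingleton.mp h2
  have := congrArg Subtype.val (Subsingleton.elim (⟨_, hmem⟩ : A.fixer ⊤ _) 1)
  exact mul_inv_eq_one.mp this

end Act

end CfsgLib.TwistCoset
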