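import Cfsg.Agent.Lib.TwistCoset.Act

/-!
A chain whose orbit lists are closed under the generators of their levels: the product of the orbit
sizes divides the order of the group that the generators of the first level generate.
-/

set_option autoImplicit false

namespace CfsgLib.TwistCoset

open CfsgLib.CosetEnum

/-- the points of a list as a mask -/
noncomputable def maskOf : List ℕ → ℕ → ℕ
  | [], m => m
  | x :: l, m => strict m fun m => maskOf l (Nat.lor m (2 ^ x))

theorem maskOf_spec : ∀ (l : List ℕ) (m p : ℕ),
    (maskOf l m).testBit p = true ↔ m.testBit p = true ∨ p ∈ l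
  | [], m, p => by simp [maskOf]
  | x :: l, m, p => by
    rw [maskOf, strict_eq, maskOf_spec l, show ∀ a b : ℕ, Nat.lor a b = a ||| b from fun _ _ => rfl,
      Nat.testBit_or, Bool.or_eq_true, Nat.testBit_two_pow, decide_eq_true_eq, List.mem_cons]
    constructor
    · rintro ((h | h) | h)
      exacts [Or.inl h, Or.inr (Or.inl h.symm), Or.inr (Or.inr h)]
    · rintro (h | h | h)
      exacts [Or.inl (Or.inl h), Or.inl (Or.inr h.symm), Or.inr h]

/-- the orbit of a level is closed under its generators -/
noncomputable def closedLev (C : Cert) (l : CLev) : Bool :=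
  strict (maskOf (l.orbit.map Prod.fst) 0) fun m =>
    Nat.testBit m l.base && l.gens.all fun g => l.orbit.all fun e => Nat.testBit m (C.run e.1 g)

/-- closed orbits, and generators of a level among those of the level above -/
noncomputable def dOK (C : Cert) : List CLev → Bool
  | [] => true
  | [l] => closedLev C l
  | l :: l' :: ls => closedLev C l && (l'.gens.all fun g => l.gens.contains g) && dOK C (l' :: ls)

variable {P : Type*} [Group P] {C : Cert} {gen : ℕ → P}

namespace Act

/-- the action from the left -/
def left (A : Act C gen) : P →* Equiv.Perm (Fin C.N) where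
  toFun x := (A.ψ x⁻¹).unop
  map_one' := by simp
  map_mul' x y := by
    rw [mul_inv_rev, map_mul, MulOpposite.unop_mul]

theorem left_apply (A : Act C gen) (x : P) : A.left x = (A.ψ x⁻¹).unop := rfl

theorem dOK_dvd [Finite P] (A : Act C gen) : ∀ {ls : List CLev} {prev : List ℕ},
    cOK C prev ls = true → dOK C ls = true → ∀ l ∈ ls.head?,
      cSize ls ∣ Nat.card (Subgroup.closure {y | ∃ g ∈ l.gens, prodW gen g = y})
  | [], prev, _, _, l, hl => by simp at hl
  | l :: ls, prev, h, hd, l', hl' => by
    obtain rfl : l = l' := by simpa using hl'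
    simp only [cOK, Bool.and_eq_true, List.all_eq_true, Nat.blt_eq, lettersOK_iff] at h
    obtain ⟨⟨⟨⟨hb, hgs⟩, hpt⟩, hnew⟩, hok⟩ := h
    have hnd := (newFrom_spec hnew).1
    have hcl : closedLev C l = true := by
      cases ls with
      | nil => simpa [dOK] using hd
      | cons a as =>
        simp only [dOK, Bool.and_eq_true] at hd
        exact hd.1.1
    simp only [closedLev, strict_eq, Bool.and_eq_true, List.all_eq_true, maskOf_spec,
      Nat.zero_testBit, Bool.false_eq_true, false_or] at hcl
    obtain ⟨hbase, hclosed⟩ := hcl
    set S := Subgroup.closure {y | ∃ g ∈ l.gens, prodW gen g = y} with hS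
    letI : MulAction S (Fin C.N) := MulAction.compHom _ (A.left.comp S.subtype)
    set b : Fin C.N := ⟨l.base, hb⟩
    have hsmul : ∀ (s : S) (x : Fin C.N), s • x = (A.ψ (s : P)⁻¹).unop x := fun _ _ => rfl
    have hlt := pathWord_lt (C := C) fun g hg => (hgs g hg).1
    have hpath : ∀ path, prodW gen (pathWord l.gens path) ∈ S := by
      intro path
      induction path with
      | nil => simp [pathWord]
      | cons k path ih =>
        rw [pathWord, List.flatMap_cons, prodW_append]
        refine mul_mem ?_ ih
        by_cases hk : k < l.gens.length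
        · rw [List.getD_eq_getElem _ _ hk]
          exact Subgroup.subset_closure ⟨_, List.getElem_mem hk, rfl⟩
        · rw [List.getD_eq_default _ _ (by omega), prodW_nil]
          exact one_mem _
    have horb : ∀ x : Fin C.N, x ∈ MulAction.orbit S b ↔ (x : ℕ) ∈ l.orbit.map Prod.fst := by
      intro x
      constructor
      · rintro ⟨s, rfl⟩
        have key : ∀ y ∈ S, ((A.ψ y).unop b : ℕ) ∈ l.orbit.map Prod.fst := by
          intro y hy
          have hy' : y ∈ Submonoid.closure {y | ∃ g ∈ l.gens, prodW gen g = y} := by
            rw [← Subgroup.closure_toSubmonoid_of_finite]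
            exact hy
          induction hy' using Submonoid.closure_induction_right with
          | one => simpa using hbase
          | mul_right a ha g hg ih =>
            obtain ⟨g, hg, rfl⟩ := hg
            have ha' : a ∈ S := by
              rw [hS, ← SetLike.mem_coe, ← Subgroup.coe_toSubmonoid,
                Subgroup.closure_toSubmonoid_of_finite]
              exact ha
            obtain ⟨e, he, he'⟩ := List.mem_map.mp (ih ha')
            rw [map_mul, MulOpposite.unop_mul, Equiv.Perm.mul_apply, A.apply g (hgs g hg).1, ← he']
            exact hclosed g hg e he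
        simp only [hsmul]
        exact key _ (inv_mem s.2)
      · intro hx
        obtain ⟨e, he, he'⟩ := List.mem_map.mp hx
        refine ⟨⟨(prodW gen (pathWord l.gens e.2))⁻¹, inv_mem (hpath _)⟩, Fin.ext ?_⟩
        simp only [hsmul, inv_inv]
        rw [A.apply _ (hlt _), ← he']
        exact Nat.eq_of_beq_eq_true (hpt e he)
    have hcard : Nat.card (MulAction.orbit S b) = l.orbit.length := by
      rw [Nat.card_coe_set_eq]
      have e : Fin.val '' MulAction.orbit S b = {n | n ∈ l.orbit.map Prod.fst} := by
        ext n
        constructor
        · rintro ⟨x, hx, rfl⟩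
          exact (horb x).mp hx
        · intro hn
          obtain ⟨q, hq, rfl⟩ := List.mem_map.mp hn
          have hN : q.1 < C.N := by
            rw [← Nat.eq_of_beq_eq_true (hpt q hq), ← A.apply _ (hlt _) b]
            exact Fin.isLt _
          exact ⟨⟨q.1, hN⟩, (horb ⟨q.1, hN⟩).mpr hn, rfl⟩
      rw [← Set.ncard_image_of_injective _ Fin.val_injective, e,
        show {n | n ∈ l.orbit.map Prod.fst} = ((l.orbit.map Prod.fst).toFinset : Set ℕ) by
          ext n; simp,
        Set.ncard_coe_finset, List.toFinset_card_of_nodup hnd, List.length_map]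
    rw [cSize, ← Subgroup.card_mul_index (MulAction.stabilizer S b), MulAction.index_stabilizer,
      ← Nat.card_coe_set_eq, hcard, Nat.mul_comm l.orbit.length]
    refine mul_dvd_mul_right ?_ _
    cases ls with
    | nil => simp [cSize]
    | cons a as =>
      simp only [dOK, Bool.and_eq_true, List.all_eq_true, List.contains_iff_mem] at hd
      refine (A.dOK_dvd hok hd.2 a rfl).trans ?_
      have hfix : ∀ y ∈ Subgroup.closure {y | ∃ g ∈ a.gens, prodW gen g = y},
          y ∈ S ∧ (A.ψ y).unop b = b := by
        simp only [cOK, Bool.and_eq_true, List.all_eq_true, Nat.blt_eq, lettersOK_iff] at hok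
        intro y hy
        induction hy using Subgroup.closure_induction with
        | mem y hy =>
          obtain ⟨g, hg, rfl⟩ := hy
          refine ⟨Subgroup.subset_closure ⟨g, hd.1.2 g hg, rfl⟩, Fin.ext ?_⟩
          obtain ⟨hl, hfx⟩ := hok.1.1.1.2 g hg
          rw [A.apply _ hl]
          exact Nat.eq_of_beq_eq_true (hfx _ List.mem_cons_self)
        | one => exact ⟨one_mem _, by simp⟩
        | mul x y _ _ hx hy =>
          exact ⟨mul_mem hx.1 hy.1, by
            rw [map_mul, MulOpposite.unop_mul, Equiv.Perm.mul_apply, hx.2, hy.2]⟩
        | inv x _ hx =>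
          exact ⟨inv_mem hx.1, by
            rw [map_inv, MulOpposite.unop_inv, Equiv.Perm.inv_eq_iff_eq, hx.2]⟩
      let f : Subgroup.closure {y | ∃ g ∈ a.gens, prodW gen g = y} →* MulAction.stabilizer S b :=
        { toFun := fun y => ⟨⟨y.1, (hfix y.1 y.2).1⟩, by
            rw [MulAction.mem_stabilizer_iff, hsmul]
            exact (hfix _ (inv_mem y.2)).2⟩
          map_one' := rfl
          map_mul' := fun _ _ => rfl }
      exact Subgroup.card_dvd_of_injective f fun x y e => Subtype.ext (by
        have := congrArg (fun z : MulAction.stabilizer S b => ((z : S) : P)) e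
        exact this)

end Act

end CfsgLib.TwistCoset
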