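import Cfsg.Agent.Lib.TwistCoset.Act
import Cfsg.Agent.Lib.DCoset.Upper

/-!
Closed sets of double cosets of a subgroup `H` and one element `t` normalising a subgroup `L` of
`H` through a given automorphism: certified facts and the bound they give on the index of `H`.
-/

set_option autoImplicit false

namespace CfsgLib.TwistCoset

open CfsgLib.CosetEnum CfsgLib.DCoset

/-- A fact: an element fixing a coset, or an edge of `t`. -/
inductive Fact where
  | stab (i : ℕ) (p : List ℕ)
  | edge (i : ℕ) (g : List ℕ) (j : ℕ) (h : List ℕ)

/-- A witness of one step: an edge, stabiliser facts, and a product of generators of `L`. -/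
structure Step where
  /-- the edge -/
  f : ℕ
  /-- the stabiliser facts, `true` for the inverse -/
  kk : List (ℕ × Bool)
  /-- the generators of `L`, `true` for the inverse -/
  uw : List (ℕ × Bool)

/-- A justification of a fact. -/
inductive Just where
  | base
  | ubase (uw : List (ℕ × Bool))
  | def'
  | rev (k : ℕ)
  | path (m : ℕ) (ws : List Step)
  | loop (m : ℕ) (v : List ℕ) (ws : List Step)
  | lift (i : ℕ) (v : List ℕ) (w1 w2 : Step)

/-- An orbit of a stabiliser on the points: an element and one step for each coset of `L`. -/
structure TRoot where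
  /-- the element -/
  g : List ℕ
  /-- the steps -/
  ws : List Step

/-- How a point of a state is reached. -/
inductive Leaf where
  | root (r : ℕ)
  | child (f : ℕ) (s : Bool) (pred : ℕ)

/-- The data of a closure. -/
structure TData where
  /-- the table -/
  C : Cert
  /-- the points determining an element -/
  B : List ℕ
  /-- generators of `L` with their images -/
  U : List (List ℕ × List ℕ)
  /-- coset representatives of `L` in the stabiliser of `0` -/
  cosL : List (List ℕ)
  /-- generators of that stabiliser -/
  pgens : List (List ℕ)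
  /-- their action on the representatives -/
  cosMove : List (List (ℕ × List (ℕ × Bool)))
  /-- `t * t` -/
  sq : List ℕ
  /-- number of states -/
  ns : ℕ
  /-- parent and element defining a state -/
  par : List (ℕ × List ℕ)
  /-- the facts -/
  facts : List Fact
  /-- their justifications -/
  prfs : List Just
  /-- words equal to `t`, the letter `K` standing for `t` -/
  menuE : List (List ℕ)
  /-- words equal to `1` -/
  menuS : List (List ℕ)
  /-- the orbits of each state -/
  roots : List (List TRoot)

namespace TData

variable (D : TData)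

/-- fact `f` -/
def fct (f : ℕ) : Fact := D.facts.getD f (.stab 0 [])

/-- equality -/
noncomputable def eq (l m : List ℕ) : Bool := Act.eqW D.C D.B l m

/-- a word or its inverse -/
def sgn (s : Bool) (p : List ℕ) : List ℕ := if s then D.C.revInv p else p

/-- the element of `L` -/
def uWord (uw : List (ℕ × Bool)) : List ℕ :=
  uw.flatMap fun k => D.sgn k.2 (D.U.getD k.1 ([], [])).1

/-- its image -/
def sWord (uw : List (ℕ × Bool)) : List ℕ :=
  uw.flatMap fun k => D.sgn k.2 (D.U.getD k.1 ([], [])).2

/-- stabiliser facts as a word -/
noncomputable def kList (bound i : ℕ) : List (ℕ × Bool) → Option (List ℕ)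
  | [] => some []
  | (f, s) :: r =>
    match D.fct f, kList bound i r with
    | .stab i' p, some k =>
      if Nat.blt f bound && Nat.beq i' i then some (D.sgn s p ++ k) else none
    | _, _ => none

/-- one step along `t` -/
noncomputable def tstep (bound i : ℕ) (π : List ℕ) (w : Step) : Option (ℕ × List ℕ) :=
  match D.fct w.f, D.kList bound i w.kk with
  | .edge i' g j h, some k =>
    if Nat.blt w.f bound && Nat.beq i' i && D.eq π (k ++ (g ++ D.uWord w.uw)) then
      some (j, h ++ D.sWord w.uw)
    else none
  | _, _ => none

/-- follow a word -/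
noncomputable def walk (bound : ℕ) : ℕ → List ℕ → List ℕ → List Step → Option (ℕ × List ℕ)
  | i, π, [], _ => some (i, π)
  | i, π, c :: Q, ws =>
    if Nat.blt c D.C.K then walk bound i (π ++ [c]) Q ws
    else if Nat.beq c D.C.K then
      match ws with
      | [] => none
      | w :: ws =>
        match D.tstep bound i π w with
        | none => none
        | some (j, ρ) => walk bound j ρ Q ws
    else none

/-- the check of fact `n` -/
noncomputable def factOK (n : ℕ) : Bool :=
  match D.fct n, D.prfs.getD n .base with
  | .stab i p, .base => lettersOK D.C p && Nat.beq i 0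
  | .stab i p, .ubase uw =>
    Nat.blt 0 i && Nat.beq (D.par.getD i (i, [])).1 0 && ((D.par.getD i (i, [])).2 == []) &&
      D.eq p (D.sWord uw) && lettersOK D.C (D.uWord uw)
  | .stab i p, .loop m v ws =>
    Nat.blt m D.menuS.length &&
      match D.walk n i v (D.menuS.getD m []) ws with
      | none => false
      | some (i', π) => Nat.beq i' i && D.eq π (p ++ v)
  | .stab j p, .lift i v w1 w2 =>
    match D.tstep n i v w1, D.tstep n i v w2 with
    | some (j1, a), some (j2, b) => Nat.beq j1 j && Nat.beq j2 j && D.eq (p ++ a) b
    | _, _ => false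
  | .edge i g j h, .def' =>
    Nat.blt i j && Nat.beq (D.par.getD j (j, [])).1 i && ((D.par.getD j (j, [])).2 == g) && (h == [])
  | .edge b g' a h', .rev k =>
    Nat.blt k n &&
      match D.fct k with
      | .edge a' g b' h => Nat.beq a' a && Nat.beq b' b && D.eq g' h && D.eq h' (g ++ D.sq)
      | _ => false
  | .edge i g j h, .path m ws =>
    Nat.blt m D.menuE.length &&
      match D.walk n i g (D.menuE.getD m []) ws with
      | none => false
      | some (j', π) => Nat.beq j' j && D.eq π h
  | _, _ => false

/-- the generators of the stabiliser permute the cosets of `L` -/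
noncomputable def cosOK : Bool :=
  Nat.blt 0 D.cosL.length && ((D.cosL.getD 0 []) == []) &&
    (D.pgens.all fun x => lettersOK D.C x) &&
    (List.range D.pgens.length).all fun a => (List.range D.cosL.length).all fun m =>
      let q := (D.cosMove.getD a []).getD m (0, [])
      Nat.blt q.1 D.cosL.length &&
        D.eq (D.pgens.getD a [] ++ D.cosL.getD m []) (D.cosL.getD q.1 [] ++ D.uWord q.2)

/-- orbit `r` of state `i` -/
def root (i r : ℕ) : TRoot := (D.roots.getD i []).getD r ⟨[], []⟩

/-- every coset of `L` above an orbit has a step -/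
noncomputable def rootOK (M i r : ℕ) : Bool :=
  lettersOK D.C (D.root i r).g && (List.range D.cosL.length).all fun m =>
    match D.tstep M i ((D.root i r).g ++ D.cosL.getD m []) ((D.root i r).ws.getD m ⟨0, [], []⟩) with
    | some (j, _) => Nat.blt j D.ns
    | none => false

/-- all orbits of a state -/
noncomputable def rootsOK (M i : ℕ) : Bool :=
  (List.range (D.roots.getD i []).length).all fun r => D.rootOK M i r

/-- grow the set of points of state `i` that are reached -/
noncomputable def reachFrom (M i : ℕ) : List Leaf → ℕ → Option ℕ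
  | [], mask => some mask
  | .root r :: l, mask => strict mask fun mask =>
    if Nat.blt r (D.roots.getD i []).length then
      reachFrom M i l (Nat.lor mask (2 ^ D.C.run 0 (D.C.revInv (D.root i r).g)))
    else none
  | .child f s pred :: l, mask => strict mask fun mask =>
    if Nat.blt f M then
      match D.fct f with
      | .stab i' p =>
        if Nat.beq i' i && lettersOK D.C p && Nat.testBit mask pred then
          reachFrom M i l (Nat.lor mask (2 ^ D.C.run pred (D.C.revInv (D.sgn s p))))
        else none
      | _ => none
    else none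

/-- every point of state `i` is reached -/
noncomputable def reachOK (M i : ℕ) (tree : List Leaf) : Bool :=
  match D.reachFrom M i tree 0 with
  | some mask => Nat.beq mask (2 ^ D.C.N - 1)
  | none => false

end TData

variable {P G : Type*} [Group P] [Group G]

/-- The group side. -/
structure TRig (D : TData) (gen0 : ℕ → P) (φ : P →* G) (H : Subgroup G) (t : G) : Prop where
  inv_mul : ∀ g, gen0 g * gen0 (D.C.inv g) = 1
  inv_lt : ∀ g, g < D.C.K → D.C.inv g < D.C.K
  eq_sound : ∀ l m, D.eq l m = true → prodW gen0 l = prodW gen0 m
  H_eq : H = φ.range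
  gen_top : Subgroup.closure (insert t (H : Set G)) = ⊤
  gen0_top : Subgroup.closure {y | ∃ g < D.C.K, gen0 g = y} = ⊤
  twist : ∀ e ∈ D.U, φ (prodW gen0 e.1) * t = t * φ (prodW gen0 e.2)
  t_sq : t * t = φ (prodW gen0 D.sq)
  menuE : ∀ Q ∈ D.menuE, prodW (fun c => if c < D.C.K then φ (gen0 c) else t) Q = t
  menuS : ∀ Q ∈ D.menuS, prodW (fun c => if c < D.C.K then φ (gen0 c) else t) Q = 1
  par0 : D.par.getD 0 (0, []) = (0, [])
  fixZero : ∀ w, (∀ g ∈ w, g < D.C.K) → D.C.run 0 w = 0 →
    prodW gen0 w ∈ Subgroup.closure {y | ∃ x ∈ D.pgens, prodW gen0 x = y}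
  run_cong : ∀ u w, (∀ g ∈ u, g < D.C.K) → (∀ g ∈ w, g < D.C.K) → prodW gen0 u = prodW gen0 w →
    D.C.run 0 u = D.C.run 0 w

namespace TData

variable {D : TData} {gen0 : ℕ → P} {φ : P →* G} {H : Subgroup G} {t : G}

/-- the element of a word -/
def ev (_ : TRig D gen0 φ H t) (w : List ℕ) : G := φ (prodW gen0 w)

theorem ev_append (R : TRig D gen0 φ H t) (u w : List ℕ) : ev R (u ++ w) = ev R u * ev R w := by
  rw [ev, ev, ev, prodW_append, map_mul]

theorem ev_nil (R : TRig D gen0 φ H t) : ev R [] = 1 := by simp [ev]

theorem ev_mem (R : TRig D gen0 φ H t) (w : List ℕ) : ev R w ∈ H := by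
  exact R.H_eq.ge ⟨_, rfl⟩

theorem ev_eq (R : TRig D gen0 φ H t) {l m : List ℕ} (h : D.eq l m = true) : ev R l = ev R m := by
  rw [ev, ev, R.eq_sound l m h]

theorem rev_eq (R : TRig D gen0 φ H t) : ∀ w : List ℕ,
    prodW gen0 (D.C.revInv w) = (prodW gen0 w)⁻¹
  | [] => by simp [Cert.revInv]
  | g :: w => by
    have e : D.C.revInv (g :: w) = D.C.revInv w ++ [D.C.inv g] := by simp [Cert.revInv]
    rw [e, prodW_append, rev_eq R w, prodW_cons, prodW_cons, prodW_nil, mul_one,
      (inv_eq_of_mul_eq_one_right (R.inv_mul g)).symm, mul_inv_rev]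

theorem rev_lt (R : TRig D gen0 φ H t) {w : List ℕ} (hw : ∀ g ∈ w, g < D.C.K) :
    ∀ g ∈ D.C.revInv w, g < D.C.K := by
  intro g hg
  simp only [Cert.revInv, List.mem_reverse, List.mem_map] at hg
  obtain ⟨g', hg', rfl⟩ := hg
  exact R.inv_lt g' (hw g' hg')

theorem ev_sgn (R : TRig D gen0 φ H t) (s : Bool) (p : List ℕ) :
    ev R (D.sgn s p) = if s then (ev R p)⁻¹ else ev R p := by
  cases s <;> simp [sgn, ev, rev_eq R]

theorem twist_word (R : TRig D gen0 φ H t) : ∀ uw : List (ℕ × Bool),
    ev R (D.uWord uw) * t = t * ev R (D.sWord uw)
  | [] => by simp [uWord, sWord, ev_nil]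
  | (k, s) :: uw => by
    have e1 : D.uWord ((k, s) :: uw) = D.sgn s (D.U.getD k ([], [])).1 ++ D.uWord uw :=
      List.flatMap_cons
    have e2 : D.sWord ((k, s) :: uw) = D.sgn s (D.U.getD k ([], [])).2 ++ D.sWord uw :=
      List.flatMap_cons
    have hk : ev R (D.U.getD k ([], [])).1 * t = t * ev R (D.U.getD k ([], [])).2 := by
      by_cases h : k < D.U.length
      · rw [List.getD_eq_getElem _ _ h]
        exact R.twist _ (List.getElem_mem h)
      · rw [List.getD_eq_default _ _ (by omega)]
        simp [ev_nil]
    have hs : ev R (D.sgn s (D.U.getD k ([], [])).1) * t =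
        t * ev R (D.sgn s (D.U.getD k ([], [])).2) := by
      rw [ev_sgn, ev_sgn]
      cases s with
      | false => simpa using hk
      | true =>
        have h2 := congrArg (fun x => (ev R (D.U.getD k ([], [])).1)⁻¹ * x *
          (ev R (D.U.getD k ([], [])).2)⁻¹) hk
        simpa [mul_assoc] using h2.symm
    rw [e1, e2, ev_append, ev_append, mul_assoc, twist_word R uw, ← mul_assoc, hs, mul_assoc]

/-- the element of a state -/
noncomputable def wst (R : TRig D gen0 φ H t) (j : ℕ) : G :=
  if _h : (D.par.getD j (j, [])).1 < j then
    wst R (D.par.getD j (j, [])).1 * ev R (D.par.getD j (j, [])).2 * t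
  else 1
  termination_by j
  decreasing_by assumption

theorem wst_zero (R : TRig D gen0 φ H t) : wst R 0 = 1 := by
  rw [wst, dif_neg]
  rw [R.par0]
  exact lt_irrefl 0

/-- the meaning of a fact -/
def Holds (R : TRig D gen0 φ H t) : Fact → Prop
  | .stab i p => Same H (wst R i * ev R p) (wst R i)
  | .edge i g j h => Same H (wst R i * ev R g * t) (wst R j * ev R h)

variable {R : TRig D gen0 φ H t}

theorem kList_spec {bound i : ℕ} (hb : ∀ f < bound, Holds R (D.fct f)) :
    ∀ {kk : List (ℕ × Bool)} {k : List ℕ}, D.kList bound i kk = some k →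
      Same H (wst R i * ev R k) (wst R i)
  | [], k, h => by
    simp only [kList, Option.some.injEq] at h
    subst h
    simp [ev_nil, Same.refl]
  | (f, s) :: r, k, h => by
    rw [kList] at h
    cases hf : D.fct f with
    | edge i' g j' h' => simp [hf] at h
    | stab i' p =>
      cases hr : D.kList bound i r with
      | none => simp [hf, hr] at h
      | some k0 =>
        simp only [hf, hr, Option.ite_none_right_eq_some, Bool.and_eq_true, Nat.blt_eq,
          Option.some.injEq] at h
        obtain ⟨⟨hfb, hi⟩, rfl⟩ := h
        obtain rfl := Nat.eq_of_beq_eq_true hi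
        have hh := hb f hfb
        rw [hf] at hh
        have h2 : Same H (wst R i' * ev R (D.sgn s p)) (wst R i') := by
          rw [ev_sgn]
          cases s with
          | false => exact hh
          | true =>
            have := (Same.mul_right hh (ev R p)⁻¹).symm
            simpa using this
        rw [ev_append, ← mul_assoc]
        exact (h2.mul_right _).trans (kList_spec hb hr)

theorem tstep_spec {bound i : ℕ} (hb : ∀ f < bound, Holds R (D.fct f)) {π : List ℕ} {w : Step}
    {j : ℕ} {ρ : List ℕ} (h : D.tstep bound i π w = some (j, ρ)) :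
    Same H (wst R i * ev R π * t) (wst R j * ev R ρ) := by
  unfold tstep at h
  cases hf : D.fct w.f with
  | stab i' p => simp [hf] at h
  | edge i' g j' h' =>
    cases hk : D.kList bound i w.kk with
    | none => simp [hf, hk] at h
    | some k =>
      simp only [hf, hk, Option.ite_none_right_eq_some, Bool.and_eq_true, Nat.blt_eq,
        Option.some.injEq, Prod.mk.injEq] at h
      obtain ⟨⟨⟨hfb, hi⟩, he⟩, rfl, rfl⟩ := h
      obtain rfl := Nat.eq_of_beq_eq_true hi
      have hh := hb _ hfb
      rw [hf] at hh
      rw [ev_eq R he, ev_append, ev_append, ev_append]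
      have e : wst R i' * (ev R k * (ev R g * ev R (D.uWord w.uw))) * t =
          wst R i' * ev R k * (ev R g * t * ev R (D.sWord w.uw)) := by
        rw [mul_assoc (ev R g) t, ← twist_word R w.uw]
        simp only [mul_assoc]
      rw [e]
      refine ((kList_spec hb hk).mul_right _).trans ?_
      rw [← mul_assoc, ← mul_assoc, ← mul_assoc]
      exact Same.mul_right hh _

theorem walk_spec {bound : ℕ} (hb : ∀ f < bound, Holds R (D.fct f)) :
    ∀ {Q : List ℕ} {i : ℕ} {π : List ℕ} {ws : List Step} {j : ℕ} {ρ : List ℕ},
      D.walk bound i π Q ws = some (j, ρ) →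
        Same H (wst R i * ev R π * prodW (fun c => if c < D.C.K then φ (gen0 c) else t) Q)
          (wst R j * ev R ρ)
  | [], i, π, ws, j, ρ, h => by
    simp only [walk, Option.some.injEq, Prod.mk.injEq] at h
    obtain ⟨rfl, rfl⟩ := h
    simp [Same.refl]
  | c :: Q, i, π, ws, j, ρ, h => by
    rw [walk.eq_def] at h
    dsimp only at h
    split at h
    · rename_i hc
      rw [Nat.blt_eq] at hc
      have a := walk_spec hb h
      rw [ev_append] at a
      rw [prodW_cons, if_pos hc, ← mul_assoc]
      simpa [ev, mul_assoc] using a
    · split at h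
      · rename_i hc
        have hc' := Nat.eq_of_beq_eq_true hc
        cases ws with
        | nil => simp at h
        | cons w ws =>
          dsimp only at h
          cases hs : D.tstep bound i π w with
          | none => simp [hs] at h
          | some q =>
            obtain ⟨j1, ρ1⟩ := q
            simp only [hs] at h
            rw [prodW_cons, if_neg (by omega), ← mul_assoc]
            exact ((tstep_spec hb hs).mul_right _).trans (walk_spec hb h)
      · simp at h

theorem fact_spec {n : ℕ} (h : D.factOK n = true) (hb : ∀ f < n, Holds R (D.fct f)) :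
    Holds R (D.fct n) := by
  unfold factOK at h
  cases hf : D.fct n with
  | stab i p =>
    rw [hf] at h
    cases hp : D.prfs.getD n .base with
    | def' => (rw [hp] at h; simp at h)
    | rev k => (rw [hp] at h; simp at h)
    | path m ws => (rw [hp] at h; simp at h)
    | base =>
      rw [hp] at h
      simp only [Bool.and_eq_true] at h
      obtain rfl := Nat.eq_of_beq_eq_true h.2
      simpa [Holds, wst_zero, Same] using ev_mem R p
    | ubase uw =>
      rw [hp] at h
      simp only [Bool.and_eq_true, Nat.blt_eq, beq_iff_eq] at h
      obtain ⟨⟨⟨⟨hi, hp0⟩, hg⟩, he⟩, -⟩ := h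
      have hp0' := Nat.eq_of_beq_eq_true hp0
      have hw : wst R i = t := by
        rw [wst, dif_pos (by omega), hp0', wst_zero, hg, ev_nil, one_mul, one_mul]
      simp only [Holds, Same]
      rw [hw, ev_eq R he, ← twist_word R uw]
      simpa [mul_assoc] using ev_mem R (D.uWord uw)
    | loop m u ws =>
      rw [hp] at h
      simp only [Bool.and_eq_true, Nat.blt_eq] at h
      obtain ⟨hm, h2⟩ := h
      cases hw : D.walk n i u (D.menuS.getD m []) ws with
      | none => simp only [List.getD_eq_getElem?_getD] at hw h2; simp [hw] at h2
      | some q =>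
        obtain ⟨i', π⟩ := q
        simp only [List.getD_eq_getElem?_getD] at hw h2
        simp only [hw, Bool.and_eq_true] at h2
        obtain rfl := Nat.eq_of_beq_eq_true h2.1
        have a := walk_spec (R := R) hb hw
        rw [R.menuS _ (by rw [List.getElem?_eq_getElem hm, Option.getD_some];
                          exact List.getElem_mem hm), mul_one, ev_eq R h2.2, ev_append,
          ← mul_assoc] at a
        exact a.symm.of_mul_right
    | lift i0 u w1 w2 =>
      rw [hp] at h
      dsimp only at h
      cases ha : D.tstep n i0 u w1 with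
      | none => simp [ha] at h
      | some qa =>
        cases hb' : D.tstep n i0 u w2 with
        | none => simp [ha, hb'] at h
        | some qb =>
          obtain ⟨j1, a⟩ := qa
          obtain ⟨j2, b⟩ := qb
          simp only [ha, hb', Bool.and_eq_true] at h
          obtain ⟨⟨hj1, hj2⟩, he⟩ := h
          rw [Nat.eq_of_beq_eq_true hj1] at ha
          rw [Nat.eq_of_beq_eq_true hj2] at hb'
          have sa := tstep_spec (R := R) hb ha
          have sb := tstep_spec (R := R) hb hb'
          rw [← ev_eq R he, ev_append, ← mul_assoc] at sb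
          exact (sb.symm.trans sa).of_mul_right
  | edge i g j h' =>
    rw [hf] at h
    cases hp : D.prfs.getD n .base with
    | base => (rw [hp] at h; simp at h)
    | ubase uw => (rw [hp] at h; simp at h)
    | loop m u ws => (rw [hp] at h; simp at h)
    | lift i0 u w1 w2 => (rw [hp] at h; simp at h)
    | def' =>
      rw [hp] at h
      simp only [Bool.and_eq_true, beq_iff_eq, Nat.blt_eq] at h
      obtain ⟨⟨⟨hij, hpar⟩, hg⟩, hh⟩ := h
      have hp0 := Nat.eq_of_beq_eq_true hpar
      have hw : wst R j = wst R i * ev R g * t := by
        rw [wst, dif_pos (by omega), hp0, hg]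
      subst hh
      simp only [Holds]
      rw [hw, ev_nil, mul_one]
      exact Same.refl _
    | rev k =>
      rw [hp] at h
      simp only [Bool.and_eq_true, Nat.blt_eq] at h
      obtain ⟨hk, h2⟩ := h
      have hh := hb k hk
      cases hf' : D.fct k with
      | stab a' p => simp [hf'] at h2
      | edge a' g0 b' h0 =>
        rw [hf'] at hh
        simp only [hf', Bool.and_eq_true] at h2
        obtain ⟨⟨⟨ha, hb'⟩, e1⟩, e2⟩ := h2
        obtain rfl := Nat.eq_of_beq_eq_true ha
        obtain rfl := Nat.eq_of_beq_eq_true hb'
        simp only [Holds] at hh ⊢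
        rw [ev_eq R e1, ev_eq R e2, ev_append, show ev R D.sq = t * t from R.t_sq.symm]
        have a1 := (hh.mul_right t).symm
        simpa [mul_assoc] using a1
    | path m ws =>
      rw [hp] at h
      simp only [Bool.and_eq_true, Nat.blt_eq] at h
      obtain ⟨hm, h2⟩ := h
      cases hw : D.walk n i g (D.menuE.getD m []) ws with
      | none => simp only [List.getD_eq_getElem?_getD] at hw h2; simp [hw] at h2
      | some q =>
        obtain ⟨j', π⟩ := q
        simp only [List.getD_eq_getElem?_getD] at hw h2
        simp only [hw, Bool.and_eq_true] at h2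
        obtain rfl := Nat.eq_of_beq_eq_true h2.1
        have a := walk_spec (R := R) hb hw
        rw [R.menuE _ (by rw [List.getElem?_eq_getElem hm, Option.getD_some];
                          exact List.getElem_mem hm), ev_eq R h2.2] at a
        exact a

theorem facts_holds (R : TRig D gen0 φ H t) {M : ℕ} (h : ∀ n < M, D.factOK n = true) :
    ∀ n < M, Holds R (D.fct n) := by
  intro n
  induction n using Nat.strong_induction_on with
  | _ n ih => exact fun hn => fact_spec (h n hn) fun f hf => ih f hf (hf.trans hn)

end TData

end CfsgLib.TwistCoset
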