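import Cfsg.Agent.Lib.TwistCoset.Closure

/-!
A closed set of certified double cosets bounds the index of `H`.
-/

set_option autoImplicit false

namespace CfsgLib.TwistCoset

open CfsgLib.CosetEnum CfsgLib.DCoset

variable {P G : Type*} [Group P] [Group G] {D : TData} {gen0 : ℕ → P} {φ : P →* G}
  {H : Subgroup G} {t : G} {R : TRig D gen0 φ H t}

namespace TData

/-- point `p` of state `i` is reached -/
def Reach (D : TData) (M i p : ℕ) : Prop :=
  ∃ r < (D.roots.getD i []).length, ∃ kk k, D.kList M i kk = some k ∧ (∀ c ∈ k, c < D.C.K) ∧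
    D.C.run 0 (D.C.revInv (k ++ (D.root i r).g)) = p

theorem revInv_append (C : Cert) (u w : List ℕ) :
    C.revInv (u ++ w) = C.revInv w ++ C.revInv u := by
  simp [Cert.revInv, List.reverse_append]

theorem reachFrom_spec (R : TRig D gen0 φ H t) {M i : ℕ} : ∀ {tree : List Leaf} {mask out : ℕ},
    D.reachFrom M i tree mask = some out → (∀ p, mask.testBit p = true → D.Reach M i p) →
      ∀ p, out.testBit p = true → D.Reach M i p
  | [], mask, out, h, hm => by
    simp only [reachFrom, Option.some.injEq] at h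
    exact h ▸ hm
  | .root r :: l, mask, out, h, hm => by
    rw [reachFrom, strict_eq, Option.ite_none_right_eq_some, Nat.blt_eq] at h
    obtain ⟨hr, h⟩ := h
    refine reachFrom_spec R h fun p hp => ?_
    rw [show ∀ a b : ℕ, Nat.lor a b = a ||| b from fun _ _ => rfl,
      Nat.testBit_or, Bool.or_eq_true, Nat.testBit_two_pow, decide_eq_true_eq] at hp
    rcases hp with hp | hp
    · exact hm p hp
    · exact ⟨r, hr, [], [], rfl, by simp, by simpa using hp⟩
  | .child f s pred :: l, mask, out, h, hm => by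
    rw [reachFrom, strict_eq, Option.ite_none_right_eq_some, Nat.blt_eq] at h
    obtain ⟨hf, h⟩ := h
    cases hfc : D.fct f with
    | edge i' g j hh => simp [hfc] at h
    | stab i' p0 =>
      simp only [hfc, Option.ite_none_right_eq_some, Bool.and_eq_true, lettersOK_iff] at h
      obtain ⟨⟨⟨hi, hlt⟩, hbit⟩, h⟩ := h
      obtain rfl := Nat.eq_of_beq_eq_true hi
      refine reachFrom_spec R h fun p hp => ?_
      rw [show ∀ a b : ℕ, Nat.lor a b = a ||| b from fun _ _ => rfl,
        Nat.testBit_or, Bool.or_eq_true, Nat.testBit_two_pow, decide_eq_true_eq] at hp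
      rcases hp with hp | hp
      · exact hm p hp
      · obtain ⟨r, hr, kk, k, h1, h2, h3⟩ := hm pred hbit
        have hs : ∀ c ∈ D.sgn s p0, c < D.C.K := by
          cases s with
          | false => exact hlt
          | true => exact rev_lt R hlt
        refine ⟨r, hr, (f, s) :: kk, D.sgn s p0 ++ k, ?_, fun c hc =>
          (List.mem_append.mp hc).elim (hs c) (h2 c), ?_⟩
        · rw [kList, hfc, h1]
          simp [hf]
        · rw [List.append_assoc, revInv_append, run_append, h3, hp]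

theorem reach_of_ok (R : TRig D gen0 φ H t) {M i : ℕ} {tree : List Leaf}
    (h : D.reachOK M i tree = true) : ∀ p < D.C.N, D.Reach M i p := by
  unfold reachOK at h
  cases hr : D.reachFrom M i tree 0 with
  | none => simp [hr] at h
  | some out =>
    rw [hr] at h
    have e := Nat.eq_of_beq_eq_true h
    intro p hp
    refine reachFrom_spec R hr (fun q hq => by simp at hq) p ?_
    rw [e, Nat.testBit_two_pow_sub_one, decide_eq_true hp]

theorem exists_word (R : TRig D gen0 φ H t) (x : P) :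
    ∃ w : List ℕ, (∀ g ∈ w, g < D.C.K) ∧ prodW gen0 w = x := by
  have hx : x ∈ Subgroup.closure {y | ∃ g < D.C.K, gen0 g = y} := by rw [R.gen0_top]; trivial
  induction hx using Subgroup.closure_induction with
  | mem y hy => obtain ⟨g, hg, rfl⟩ := hy; exact ⟨[g], by simpa using hg, by simp⟩
  | one => exact ⟨[], by simp, rfl⟩
  | mul x y _ _ hx hy =>
    obtain ⟨a, ha, rfl⟩ := hx
    obtain ⟨b, hb, rfl⟩ := hy
    exact ⟨a ++ b, fun g hg => (List.mem_append.mp hg).elim (ha g) (hb g), prodW_append _ _ _⟩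
  | inv x _ hx =>
    obtain ⟨a, ha, rfl⟩ := hx
    exact ⟨D.C.revInv a, rev_lt R ha, rev_eq R a⟩

theorem cos_spec [Finite P] (R : TRig D gen0 φ H t) (hc : D.cosOK = true) {x : P}
    (hx : x ∈ Subgroup.closure {y | ∃ w ∈ D.pgens, prodW gen0 w = y}) :
    ∃ m < D.cosL.length, ∃ uw, x = prodW gen0 (D.cosL.getD m [] ++ D.uWord uw) := by
  simp only [cosOK, Bool.and_eq_true, Nat.blt_eq, beq_iff_eq, List.all_eq_true, List.mem_range] at hc
  obtain ⟨⟨⟨hlen, h0⟩, -⟩, hmove⟩ := hc
  have hx' : x ∈ Submonoid.closure {y | ∃ w ∈ D.pgens, prodW gen0 w = y} := by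
    rw [← Subgroup.closure_toSubmonoid_of_finite]
    exact hx
  induction hx' using Submonoid.closure_induction_left with
  | one => exact ⟨0, hlen, [], by rw [h0]; simp [uWord]⟩
  | mul_left a ha b hb ih =>
    obtain ⟨w, hw, rfl⟩ := ha
    have hmem : prodW gen0 w ∈ Subgroup.closure {y | ∃ u ∈ D.pgens, prodW gen0 u = y} :=
      Subgroup.subset_closure ⟨w, hw, rfl⟩
    obtain ⟨m, hm, uw, rfl⟩ := ih ((Subgroup.mul_mem_cancel_left _ hmem).mp hx)
    obtain ⟨k, hk, rfl⟩ := List.getElem_of_mem hw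
    obtain ⟨hq, he⟩ := hmove k hk m hm
    refine ⟨_, hq, ((D.cosMove.getD k []).getD m (0, [])).2 ++ uw, ?_⟩
    have e := R.eq_sound _ _ he
    rw [List.getD_eq_getElem _ _ hk, prodW_append] at e
    have huw : D.uWord (((D.cosMove.getD k []).getD m (0, [])).2 ++ uw) =
        D.uWord ((D.cosMove.getD k []).getD m (0, [])).2 ++ D.uWord uw := List.flatMap_append
    rw [huw, prodW_append, ← mul_assoc, e]
    simp only [prodW_append, mul_assoc]

/-- a step is possible from every element of every state -/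
theorem exists_step [Finite P] (R : TRig D gen0 φ H t) (hc : D.cosOK = true) {M : ℕ}
    (hb : ∀ f < M, Holds R (D.fct f)) (hroots : ∀ i < D.ns, D.rootsOK M i = true)
    (hreach : ∀ i < D.ns, ∀ p < D.C.N, D.Reach M i p) (hrun : ∀ w, (∀ g ∈ w, g < D.C.K) →
      D.C.run 0 w < D.C.N) {i : ℕ} (hi : i < D.ns) (x : P) :
    ∃ j < D.ns, ∃ y : P, Same H (wst R i * φ x * t) (wst R j * φ y) := by
  obtain ⟨π, hπ, rfl⟩ := exists_word R x
  obtain ⟨r, hr, kk, k, hk, hkl, hrun'⟩ :=
    hreach i hi _ (hrun (D.C.revInv π) (rev_lt R hπ))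
  have hro := hroots i hi
  simp only [rootsOK, List.all_eq_true, List.mem_range] at hro
  have hro' := hro r hr
  simp only [rootOK, Bool.and_eq_true, List.all_eq_true, List.mem_range, lettersOK_iff] at hro'
  obtain ⟨hg, hsteps⟩ := hro'
  have hkg : ∀ c ∈ k ++ (D.root i r).g, c < D.C.K := fun c hc =>
    (List.mem_append.mp hc).elim (hkl c) (hg c)
  have hlt : ∀ c ∈ D.C.revInv (k ++ (D.root i r).g) ++ π, c < D.C.K := fun c hc =>
    (List.mem_append.mp hc).elim (rev_lt R hkg c) (hπ c)
  have h0 : D.C.run 0 (D.C.revInv (k ++ (D.root i r).g) ++ π) = 0 := by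
    rw [run_append, hrun', ← run_append, R.run_cong _ [] (fun c hc =>
      (List.mem_append.mp hc).elim (rev_lt R hπ c) (hπ c)) (by simp)
      (by rw [prodW_append, rev_eq R, inv_mul_cancel, prodW_nil])]
    exact Cert.run_nil _ 0
  obtain ⟨m, hm, uw, he⟩ := cos_spec R hc (R.fixZero _ hlt h0)
  have hst := hsteps m hm
  cases hts : D.tstep M i ((D.root i r).g ++ D.cosL.getD m []) ((D.root i r).ws.getD m ⟨0, [], []⟩) with
  | none => rw [hts] at hst; simp at hst
  | some q =>
    obtain ⟨j, ρ⟩ := q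
    rw [hts] at hst
    simp only [Nat.blt_eq] at hst
    refine ⟨j, hst, prodW gen0 (ρ ++ D.sWord uw), ?_⟩
    have hπe : φ (prodW gen0 π) = ev R k * (ev R ((D.root i r).g ++ D.cosL.getD m []) *
        ev R (D.uWord uw)) := by
      rw [prodW_append, rev_eq R, inv_mul_eq_iff_eq_mul] at he
      rw [he]
      simp only [ev, prodW_append, map_mul, mul_assoc]
    have e : wst R i * φ (prodW gen0 π) * t = wst R i * ev R k *
        (ev R ((D.root i r).g ++ D.cosL.getD m []) * t * ev R (D.sWord uw)) := by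
      rw [hπe, mul_assoc (ev R ((D.root i r).g ++ _)) t, ← twist_word R uw]
      simp only [mul_assoc]
    rw [e]
    refine ((kList_spec hb hk).mul_right _).trans ?_
    rw [← mul_assoc, ← mul_assoc]
    refine ((tstep_spec hb hts).mul_right _).trans ?_
    rw [show φ (prodW gen0 (ρ ++ D.sWord uw)) = ev R ρ * ev R (D.sWord uw) from ev_append R _ _,
      ← mul_assoc]
    exact Same.refl _

/-- the subgroup of the stabiliser facts of state `i` -/
def Kgrp (D : TData) (gen0 : ℕ → P) (M i : ℕ) : Subgroup P :=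
  Subgroup.closure {x | ∃ f < M, ∃ p, D.fct f = .stab i p ∧ prodW gen0 p = x}

/-- the cosets of all states -/
abbrev Omega (D : TData) (gen0 : ℕ → P) (M : ℕ) : Type _ :=
  Σ i : Fin D.ns, P ⧸ D.Kgrp gen0 M i

theorem same_K {M i : ℕ} (hb : ∀ f < M, Holds R (D.fct f)) {x : P} (hx : x ∈ D.Kgrp gen0 M i) :
    Same H (wst R i * φ x) (wst R i) := by
  induction hx using Subgroup.closure_induction with
  | mem y hy =>
    obtain ⟨f, hf, p, hfc, rfl⟩ := hy
    have h := hb f hf
    rw [hfc] at h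
    exact h
  | one => simp [Same.refl]
  | mul x y _ _ hx hy =>
    rw [map_mul, ← mul_assoc]
    exact (hx.mul_right _).trans hy
  | inv x _ hx =>
    rw [map_inv]
    have := (hx.mul_right (φ x)⁻¹).symm
    simpa using this

/-- the coset of a point of the set -/
noncomputable def toCoset {M : ℕ} (R : TRig D gen0 φ H t) (hb : ∀ f < M, Holds R (D.fct f)) :
    D.Omega gen0 M → G ⧸ H := fun ω =>
  Quotient.liftOn ω.2 (fun x => ((φ x * (wst R ω.1)⁻¹ : G) : G ⧸ H)) fun a b hab => by
    have hk : a⁻¹ * b ∈ D.Kgrp gen0 M ω.1 := QuotientGroup.leftRel_apply.mp hab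
    rw [QuotientGroup.eq]
    have h1 := same_K (R := R) hb hk
    unfold Same at h1
    simpa [mul_assoc] using h1

theorem toCoset_surjective [Finite P] (R : TRig D gen0 φ H t) (hc : D.cosOK = true) {M : ℕ}
    (hb : ∀ f < M, Holds R (D.fct f)) (hns : 0 < D.ns) (hroots : ∀ i < D.ns, D.rootsOK M i = true)
    (hreach : ∀ i < D.ns, ∀ p < D.C.N, D.Reach M i p) (hrun : ∀ w, (∀ g ∈ w, g < D.C.K) →
      D.C.run 0 w < D.C.N) :
    Function.Surjective (toCoset R hb) := by
  let T : Set G := {x | ∃ i < D.ns, ∃ y : P, Same H x (wst R i * φ y)}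
  have hH : ∀ a ∈ H, ∀ x ∈ T, x * a ∈ T := by
    rintro a ha x ⟨i, hi, y, hx⟩
    rw [R.H_eq] at ha
    obtain ⟨b, rfl⟩ := ha
    refine ⟨i, hi, y * b, ?_⟩
    rw [map_mul, ← mul_assoc]
    exact hx.mul_right _
  have ht : ∀ x ∈ T, x * t ∈ T := by
    rintro x ⟨i, hi, y, hx⟩
    obtain ⟨j, hj, z, hz⟩ := exists_step R hc hb hroots hreach hrun hi y
    exact ⟨j, hj, z, (hx.mul_right t).trans hz⟩
  have hti : ∀ x ∈ T, x * t⁻¹ ∈ T := by
    intro x hx
    have h2 : t⁻¹ = (φ (prodW gen0 D.sq))⁻¹ * t := by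
      rw [← R.t_sq, mul_inv_rev, inv_mul_cancel_right]
    rw [h2, ← mul_assoc]
    exact ht _ (hH _ (inv_mem (ev_mem R D.sq)) _ hx)
  have hall : ∀ x : G, x ∈ T := by
    intro x
    have hx : x ∈ Subgroup.closure (insert t (H : Set G)) := by rw [R.gen_top]; trivial
    induction hx using Subgroup.closure_induction_right with
    | one => exact ⟨0, hns, 1, by simp [wst_zero, Same.refl]⟩
    | mul_right a _ b hb' ih =>
      rcases hb' with rfl | hb'
      · exact ht a ih
      · exact hH b hb' a ih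
    | mul_inv_cancel a _ b hb' ih =>
      rcases hb' with rfl | hb'
      · exact hti a ih
      · exact hH _ (inv_mem hb') a ih
  intro q
  induction q using QuotientGroup.induction_on with
  | _ x =>
    obtain ⟨i, hi, y, hs⟩ := hall x⁻¹
    refine ⟨⟨⟨i, hi⟩, ((y⁻¹ : P) : P ⧸ D.Kgrp gen0 M i)⟩, ?_⟩
    change ((φ y⁻¹ * (wst R i)⁻¹ : G) : G ⧸ H) = _
    rw [QuotientGroup.eq, map_inv]
    have h1 := hs.symm
    unfold Same at h1
    simpa [mul_assoc] using h1

theorem finite_index_le [Finite P] (R : TRig D gen0 φ H t) (hc : D.cosOK = true) {M : ℕ}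
    (hb : ∀ f < M, Holds R (D.fct f)) (hns : 0 < D.ns) (hroots : ∀ i < D.ns, D.rootsOK M i = true)
    (hreach : ∀ i < D.ns, ∀ p < D.C.N, D.Reach M i p) (hrun : ∀ w, (∀ g ∈ w, g < D.C.K) →
      D.C.run 0 w < D.C.N) :
    Finite (G ⧸ H) ∧ H.index ≤ ∑ i : Fin D.ns, (D.Kgrp gen0 M i).index := by
  have h := toCoset_surjective R hc hb hns hroots hreach hrun
  haveI : Finite (G ⧸ H) := Finite.of_surjective _ h
  refine ⟨inferInstance, (Nat.card_le_card_of_surjective _ h).trans ?_⟩
  rw [Nat.card_sigma]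
  rfl

end TData

end CfsgLib.TwistCoset
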